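import Mathlib
import Cfsg.Agent.K3P.Bas
import Cfsg.Agent.Loc.MssSyl

/-! Groups all of whose elements have order at most eight: definitions. -/

set_option autoImplicit false
open Cfsg Subgroup

namespace Cfsg.Agent.Or8

open Cfsg.Agent.K3P Cfsg.Agent.Loc.Mss

universe u

/-- All elements have order at most eight. -/
def St (G : Type*) [Group G] : Prop := ∀ g : G, orderOf g ≤ 8

/-- The alternating group of degree five. -/
abbrev A5 : Type := alternatingGroup (Fin 5)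
/-- The alternating group of degree six. -/
abbrev A6 : Type := alternatingGroup (Fin 6)
/-- The alternating group of degree seven. -/
abbrev A7 : Type := alternatingGroup (Fin 7)
/-- The symmetric group of degree five. -/
abbrev S5 : Type := Equiv.Perm (Fin 5)
/-- The symmetric group of degree six. -/
abbrev S6 : Type := Equiv.Perm (Fin 6)
/-- The simple group of order 168. -/
abbrev L32 : Type := Matrix.SpecialLinearGroup (Fin 3) (ZMod 2)
/-- The natural module of `L32`. -/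
abbrev V3 : Type := Fin 3 → ZMod 2

/-- The action of `L32` on its natural module. -/
abbrev ac (g : L32) (c : V3) : V3 := (g : Matrix (Fin 3) (Fin 3) (ZMod 2)).mulVec c

/-- The first basis vector. -/
abbrev e0 : V3 := ![1, 0, 0]
/-- The second basis vector. -/
abbrev e1 : V3 := ![0, 1, 0]
/-- The third basis vector. -/
abbrev e2 : V3 := ![0, 0, 1]

/-- A three-cycle of `A6`. -/
abbrev Ta (a : A6) : Prop := (a : S6).IsThreeCycle
/-- A product of two disjoint three-cycles of `A6`. -/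
abbrev Tb (b : A6) : Prop := (b : S6).cycleType = {3, 3}

/-- `G` is `PSL(3, 4)`. -/
def IsL34 (G : Type*) [Group G] : Prop :=
  ∃ (F : Type) (_ : Field F) (_ : Fintype F), Fintype.card F = 4 ∧
    Nonempty (G ≃* Matrix.ProjectiveSpecialLinearGroup (Fin 3) F)

/-- The five simple groups with element orders at most eight. -/
def Tgt (G : Type*) [Group G] : Prop :=
  Nonempty (G ≃* A5) ∨ Nonempty (G ≃* A6) ∨ Nonempty (G ≃* A7) ∨ Nonempty (G ≃* L32) ∨ IsL34 G

/-- The classification holds below the order `n`. -/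
def KS (n : ℕ) : Prop :=
  ∀ (S : Type u) [Group S] [Finite S] [IsSimpleGroup S], ¬ IsMulCommutative S → St S →
    Nat.card S < n → Tgt S

variable {G : Type*} [Group G]

/-- The 2-core of a subgroup. -/
abbrev O2 (H : Subgroup G) : Subgroup G := pCoreOf 2 H

/-- `π` maps `M` onto `Y` with kernel the 2-group `Q`. -/
structure Pj {Y : Type*} [Group Y] (M Q : Subgroup G) (π : M →* Y) : Prop where
  two : IsPGroup 2 Q
  le : Q ≤ M
  surj : Function.Surjective π
  ker : ∀ m : M, π m = 1 ↔ (m : G) ∈ Q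

/-- The preimage of a subgroup, as a subgroup of `G`. -/
def pre {Y : Type*} [Group Y] {M : Subgroup G} (π : M →* Y) (K : Subgroup Y) : Subgroup G :=
  (K.comap π).map M.subtype

/-- `H / O₂(H)` is isomorphic to `Y`. -/
def Ty (H : Subgroup G) (Y : Type*) [Group Y] : Prop := ∃ π : H →* Y, Pj H (O2 H) π

/-- `H` has 3-rank at most two. -/
def R2 (H : Subgroup G) : Prop :=
  ∀ B : Subgroup G, B ≤ H → IsElementaryAbelian 3 B → Nat.card B ≤ 9

/-- Elementary abelian subgroups of `H` have rank at most two modulo `Q`. -/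
def Rk (H Q : Subgroup G) : Prop :=
  ∀ U : Subgroup G, U ≤ H → IsElementaryAbelian 2 U → Nat.card U ≤ 4 * Nat.card (U ⊓ Q : Subgroup G)

/-- `H` has no elements of order five or seven. -/
def N57 (H : Subgroup G) : Prop := ∀ y ∈ H, orderOf y ≠ 5 ∧ orderOf y ≠ 7

/-- `H` is solvable of characteristic two. -/
structure Sl (H : Subgroup G) : Prop where
  ch : ChP 2 H
  sol : Group.IsSolvable H

/-- `M` is maximal among the subgroups with nontrivial 2-core. -/
structure Mx (M : Subgroup G) : Prop where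
  ne : O2 M ≠ ⊥
  max : ∀ P : Subgroup G, IsPGroup 2 P → P ≠ ⊥ → M ≤ 𝐍[P] → 𝐍[P] ≤ M

/-- The standing hypotheses on a minimal counterexample. -/
structure Hyp (G : Type*) [Group G] : Prop where
  st : St G
  c2 : ∀ P : Subgroup G, IsPGroup 2 P → P ≠ ⊥ → ChP 2 𝐍[P]
  top : ∀ P : Subgroup G, IsPGroup 2 P → P ≠ ⊥ → 𝐍[P] ≠ ⊤
  wc : ∀ A : Subgroup G, IsElementaryAbelian 2 A → A ≠ ⊥ → ¬ WCl A
  cs : ∀ T M : Subgroup G, Syl 2 T ⊤ → M ≠ ⊤ →
    ¬ ∀ P : Subgroup G, IsPGroup 2 P → P ≠ ⊥ → 𝐍[T] ≤ 𝐍[P] → 𝐍[P] ≤ M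
  sr : ∀ T : Subgroup G, Syl 2 T ⊤ → ¬ SectionalPRankLE 2 4 T
  ty : ∀ H : Subgroup G, H ≠ ⊤ → ChP 2 H → ¬ Group.IsSolvable H →
    Ty H A5 ∨ Ty H S5 ∨ Ty H A6 ∨ Ty H L32

/-- An elementary abelian 2-group (written additively) on which the norm of every element of
order at least five vanishes. -/
structure Md (Y W : Type*) [Group Y] [AddCommGroup W] [DistribMulAction Y W] : Prop where
  two : ∀ w : W, w + w = 0
  nrm : ∀ y : Y, 5 ≤ orderOf y → ∀ w : W, ∑ i ∈ Finset.range (orderOf y), y ^ i • w = 0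

/-- The span of the vectors fixed by some three-cycle. -/
def Wa (W : Type*) [AddCommGroup W] [DistribMulAction A6 W] : AddSubgroup W :=
  AddSubgroup.closure {w | ∃ a : A6, Ta a ∧ a • w = w}

/-- The span of the vectors fixed by some product of two disjoint three-cycles. -/
def Wb (W : Type*) [AddCommGroup W] [DistribMulAction A6 W] : AddSubgroup W :=
  AddSubgroup.closure {w | ∃ b : A6, Tb b ∧ b • w = w}

/-- `ψ` identifies the section `A / B` with the module `W`. -/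
structure Sc {Y W : Type*} [Group Y] [AddCommGroup W] [DistribMulAction Y W]
    (M A B : Subgroup G) (π : M →* Y) (ψ : G → W) : Prop where
  add : ∀ a ∈ A, ∀ b ∈ A, ψ (a * b) = ψ a + ψ b
  zero : ∀ a ∈ A, ψ a = 0 ↔ a ∈ B
  surj : ∀ w : W, ∃ a ∈ A, ψ a = w
  act : ∀ m : M, ∀ a ∈ A, ψ (m * a * (m : G)⁻¹) = π m • ψ a

/-- `A / B` is an `M`-invariant elementary abelian section of `Q` centralised by `Q`. -/
structure Se (M Q A B : Subgroup G) : Prop where
  BA : B ≤ A
  AQ : A ≤ Q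
  nA : M ≤ 𝐍[A]
  nB : M ≤ 𝐍[B]
  comm : ∀ q ∈ Q, ∀ a ∈ A, q * a * q⁻¹ * a⁻¹ ∈ B
  sq : ∀ a ∈ A, a * a ∈ B

/-- A self-centralising `V` of order 16 inside a Sylow 2-subgroup `T0` of `V : SL(2, 4)`. -/
structure CN (V T0 S : Subgroup G) (x : G) : Prop where
  el : IsElementaryAbelian 2 V
  card : Nat.card V = 16
  cen : 𝐂[V] ≤ V
  VT : V ≤ T0
  TS : T0 ≤ S
  syl : Syl 2 S 𝐍[V]
  cardT : Nat.card T0 = 64
  sq : ∀ t ∈ T0, t * t ∈ V
  xo : orderOf x = 3
  xV : x ∈ 𝐍[V]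
  xT : x ∈ 𝐍[T0]
  fpf : T0 ⊓ Cn x = ⊥
  free : ∀ q ∈ 𝐍[V], q ∉ V → q * q ∈ V → Nat.card (V ⊓ Cn q : Subgroup G) ≤ 4
  top : S = T0 ∨ (Nat.card S = 128 ∧ (∀ q ∈ S, q ∉ T0 → q * x * q⁻¹ * x ∈ T0) ∧
    ∃ q ∈ S, q ∉ T0 ∧ q * q ∈ V)

/-- The two elementary abelian subgroups of order 16 of a Sylow 2-subgroup of `SL(3, 4)`. -/
structure P4 (V V' T0 : Subgroup G) : Prop where
  eV : IsElementaryAbelian 2 V
  eV' : IsElementaryAbelian 2 V'
  cV : Nat.card V = 16
  cV' : Nat.card V' = 16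
  cZ : Nat.card (V ⊓ V' : Subgroup G) = 4
  sup : V ⊔ V' = T0
  cT : Nat.card T0 = 64
  nV : V' ≤ 𝐍[V]
  nV' : V ≤ 𝐍[V']
  nc : ∀ v ∈ V, ∀ t ∈ V', Commute v t → v ∈ V' ∨ t ∈ V

/-- A maximal 2-local subgroup inducing `L32` on the normal subgroup `V` of order eight, in
coordinates. -/
structure LB (M Q V : Subgroup G) (π : M →* L32) (ψ : V3 → G) : Prop where
  mx : Mx M
  ch : ChP 2 M
  core : O2 M = Q
  pj : Pj M Q π
  VQ : V ≤ Q
  mem : ∀ g : G, g ∈ V ↔ ∃ c, ψ c = g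
  inj : Function.Injective ψ
  add : ∀ c d, ψ (c + d) = ψ c * ψ d
  act : ∀ (m : M) (c : V3), (m : G) * ψ c * (m : G)⁻¹ = ψ (ac (π m) c)

/-- The same without coordinates. -/
def LC (M Q V : Subgroup G) : Prop := ∃ (π : M →* L32) (ψ : V3 → G), LB M Q V π ψ

/-- The 2-core of the centraliser of `z` in `M`. -/
abbrev Qa (M : Subgroup G) (z : G) : Subgroup G := O2 (M ⊓ Cn z)

/-- The flag `z ∈ Y ≤ V` fixed by a Sylow 2-subgroup `T`. -/
structure LT (V T Y : Subgroup G) (z : G) : Prop where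
  zV : z ∈ V
  z1 : z ≠ 1
  fix : V ⊓ 𝐂[T] = zpowers z
  zY : z ∈ Y
  YV : Y ≤ V
  cY : Nat.card Y = 4
  comm : ∀ t ∈ T, ∀ w ∈ V, t * w * t⁻¹ * w⁻¹ ∈ Y
  uni : ∀ U : Subgroup G, U ≤ V → T ≤ 𝐍[U] → Nat.card U = 4 → U = Y

/-- The generic case: `Q ≠ V` and `M` contains the centralisers of the involutions of `V`. -/
structure LK (M Q V : Subgroup G) : Prop where
  lc : LC M Q V
  ne : Q ≠ V
  cn : ∀ v ∈ V, v ≠ 1 → Cn v ≤ M

/-- A solvable overgroup `H` of the Sylow 2-subgroup `T` of `M` whose 2-core misses `v ∈ V`. -/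
structure LX (M Q V T Y H : Subgroup G) (z v : G) : Prop where
  lk : LK M Q V
  syl : Syl 2 T M
  lt : LT V T Y z
  sl : Sl H
  TH : T ≤ H
  QT : O2 H ≤ T
  vV : v ∈ V
  vQ : v ∉ O2 H

/-- A maximal 2-local subgroup of 3-rank at least three. -/
structure CI (M V B : Subgroup G) : Prop where
  mx : Mx M
  sl : Sl M
  core : O2 M = V
  BM : B ≤ M
  eB : IsElementaryAbelian 3 B
  cB : Nat.card B = 27

end Cfsg.Agent.Or8
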