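import Mathlib
import Cfsg.Agent.Or8.Defs
import Cfsg.Agent.Ch.Burnside
import Cfsg.Agent.GT.Zipper
import Cfsg.Agent.GT.CoprimeFixed
import Cfsg.Agent.Loc.CardProd
import Cfsg.Agent.EX.Key
import Cfsg.Agent.S1232

/-! Elementary consequences of the bound on element orders. -/

set_option autoImplicit false
set_option linter.unusedSectionVars false
open Cfsg Subgroup

namespace Cfsg.Agent.Or8

open Cfsg.Agent.K3P Cfsg.Agent.Loc.Mss
open scoped commutatorElement

universe u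

variable {G : Type*} [Group G]

theorem St.of_injective (h : St G) {H : Type*} [Group H] (f : H →* G)
    (hf : Function.Injective f) : St H := fun g => orderOf_injective f hf g ▸ h _

theorem St.sub (h : St G) (H : Subgroup G) : St H := h.of_injective H.subtype H.subtype_injective

theorem St.of_equiv (h : St G) {H : Type*} [Group H] (e : G ≃* H) : St H :=
  h.of_injective e.symm.toMonoidHom e.symm.injective

variable [Finite G]

theorem St.of_surjective (h : St G) {H : Type*} [Group H] (f : G →* H)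
    (hf : Function.Surjective f) : St H := fun g => by
  obtain ⟨g, rfl⟩ := hf g
  exact (Nat.le_of_dvd (orderOf_pos g) (orderOf_map_dvd f g)).trans (h g)

theorem St.quot (h : St G) (N : Subgroup G) [N.Normal] : St (G ⧸ N) :=
  h.of_surjective _ (QuotientGroup.mk'_surjective N)

theorem St.prime_le (h : St G) {p : ℕ} (hp : p.Prime) (hd : p ∣ Nat.card G) :
    p = 2 ∨ p = 3 ∨ p = 5 ∨ p = 7 := by
  haveI := Fact.mk hp
  obtain ⟨g, hg⟩ := exists_prime_orderOf_dvd_card' p hd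
  have h1 := h g
  have h2 := hp.two_le
  rw [hg] at h1
  interval_cases p <;> first | omega | exact absurd hp (by norm_num)

theorem St.mul_le (h : St G) {a b : G} (hc : Commute a b)
    (hab : (orderOf a).Coprime (orderOf b)) : orderOf a * orderOf b ≤ 8 :=
  hc.orderOf_mul_eq_mul_orderOf_of_coprime hab ▸ h _

theorem St.eq_of_dvd (h : St G) {p : ℕ} (hp : p = 5 ∨ p = 7) {y : G} (hy : p ∣ orderOf y) :
    orderOf y = p := by
  have h1 := h y
  have h2 := orderOf_pos y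
  rcases hp with rfl | rfl <;> omega

theorem St.eq_one (h : St G) {p : ℕ} (hp : p = 5 ∨ p = 7) {y g : G} (hy : orderOf y = p)
    (hc : Commute y g) (hg : ¬ p ∣ orderOf g) : g = 1 := by
  have pp : p.Prime := by rcases hp with rfl | rfl <;> norm_num
  have h2 := h.mul_le hc (hy ▸ (Nat.Prime.coprime_iff_not_dvd pp).2 hg)
  have h3 := orderOf_pos g
  rw [hy] at h2
  refine orderOf_eq_one_iff.1 ?_
  rcases hp with rfl | rfl <;> omega

theorem bas_not_dvd {g : G} (hg : Tw g) {p : ℕ} (hp : p.Prime) (h2 : p ≠ 2) :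
    ¬ p ∣ orderOf g := fun e => by
  obtain ⟨k, hk⟩ := hg
  exact h2 ((Nat.prime_dvd_prime_iff_eq hp Nat.prime_two).1
    (hp.dvd_of_dvd_pow (e.trans (orderOf_dvd_of_pow_eq_one hk))))

theorem St.fpf (h : St G) {y g : G} (hy : orderOf y = 5 ∨ orderOf y = 7) (hc : Commute y g)
    (hg : Tw g) : g = 1 := by
  rcases hy with e | e
  · exact h.eq_one (Or.inl rfl) e hc (bas_not_dvd hg (by norm_num) (by norm_num))
  · exact h.eq_one (Or.inr rfl) e hc (bas_not_dvd hg (by norm_num) (by norm_num))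

theorem St.inf_cn (h : St G) {y : G} (hy : orderOf y = 5 ∨ orderOf y = 7) {Q : Subgroup G}
    (hQ : IsPGroup 2 Q) : Q ⊓ Cn y = ⊥ :=
  eq_bot_iff.2 fun _ hv => h.fpf hy (mem_Cn.1 hv.2) (tw_of_mem hQ hv.1)

theorem St.sq_of_three (h : St G) {x g : G} (hx : orderOf x = 3) (hc : Commute x g) (hg : Tw g) :
    g * g = 1 := by
  have h2 := h.mul_le hc (hx ▸ (Nat.Prime.coprime_iff_not_dvd Nat.prime_three).2
    (bas_not_dvd hg Nat.prime_three (by norm_num)))
  have h3 := orderOf_pos g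
  rw [← sq, ← orderOf_dvd_iff_pow_eq_one]
  rw [hx] at h2
  have h4 : orderOf g ≤ 2 := by omega
  interval_cases orderOf g <;> norm_num

theorem St.el_of_three (h : St G) {x : G} (hx : orderOf x = 3) {E : Subgroup G}
    (hE : IsPGroup 2 E) (hc : E ≤ Cn x) : IsElementaryAbelian 2 E :=
  el_of_sq fun _ ha => h.sq_of_three hx (mem_Cn.1 (hc ha)) (tw_of_mem hE ha)

theorem bas_two_zpowers {u : G} (hu : Tw u) : IsPGroup 2 (zpowers u) :=
  two_of_tw fun a ha => by
    obtain ⟨k, hk⟩ := hu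
    obtain ⟨j, rfl⟩ := ha
    exact ⟨k, by rw [← zpow_natCast, ← zpow_mul, mul_comm, zpow_mul, zpow_natCast, hk, one_zpow]⟩

/-- A 2-element of `C(x)` normalising the 2-subgroup `E` of `C(x)` centralises it. -/
theorem St.comm_of_three (h : St G) {x : G} (hx : orderOf x = 3) {E : Subgroup G}
    (hE : IsPGroup 2 E) (hc : E ≤ Cn x) {u : G} (hu : Tw u) (ux : Commute x u) (uE : u ∈ 𝐍[E]) :
    u ∈ 𝐂[E] := by
  have el := h.el_of_three hx (pg_sup (bas_two_zpowers hu) hE (zpowers_le.2 uE))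
    (sup_le (zpowers_le.2 (mem_Cn.2 ux)) hc)
  exact mem_cent.2 fun a ha =>
    el_comm el (mem_sup_right ha) (mem_sup_left (mem_zpowers u))

theorem St.cube_eq_one (h : St G) {D : Subgroup G} (hD : IsPGroup 3 D) {g : G} (hg : g ∈ D) :
    g ^ 3 = 1 := by
  obtain ⟨k, hk⟩ := pg_iff.1 hD g hg
  obtain ⟨j, -, hj⟩ := (Nat.dvd_prime_pow Nat.prime_three).1 (orderOf_dvd_of_pow_eq_one hk)
  have h1 := h g
  have h2 : j ≤ 1 := by
    by_contra h3
    have := Nat.pow_le_pow_right (show 0 < 3 by norm_num) (show 2 ≤ j by omega)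
    omega
  exact orderOf_dvd_iff_pow_eq_one.1 (hj ▸ by simpa using pow_dvd_pow 3 h2)

theorem St.odd_cases (h : St G) {g : G} (hg : Odd (orderOf g)) :
    g = 1 ∨ orderOf g = 3 ∨ orderOf g = 5 ∨ orderOf g = 7 := by
  have h1 := h g
  rw [← orderOf_eq_one_iff]
  obtain ⟨k, hk⟩ := hg
  omega

theorem St.exists_pow (h : St G) {g : G} (hg : ¬ Tw g) :
    ∃ n : ℕ, orderOf (g ^ n) = 3 ∨ orderOf (g ^ n) = 5 ∨ orderOf (g ^ n) = 7 := by
  have h1 := h g
  have h2 := orderOf_pos g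
  have k : ∀ j, orderOf g ≠ 2 ^ j := fun j e => hg ⟨j, e ▸ pow_orderOf_eq_one g⟩
  have k0 := k 0
  have k1 := k 1
  have k2 := k 2
  have k3 := k 3
  by_cases e : orderOf g = 6
  · exact ⟨2, Or.inl (by rw [orderOf_pow' g two_ne_zero, e]; norm_num)⟩
  · exact ⟨1, by rw [pow_one]; omega⟩

theorem St.solvable (h : St G) {H : Subgroup G} (n : N57 H) : Group.IsSolvable H :=
  Ch.burnside_isSolvable_of_primes (p := 2) Nat.prime_three fun r hr hd => by
    haveI := Fact.mk hr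
    obtain ⟨g, hg⟩ := exists_prime_orderOf_dvd_card' r hd
    have := n g g.2
    rw [orderOf_coe, hg] at this
    rcases (h.sub H).prime_le hr hd with e | e | e | e <;> simp_all

theorem St.exists57 (h : St G) {H : Subgroup G} (ns : ¬ Group.IsSolvable H) :
    ∃ y ∈ H, orderOf y = 5 ∨ orderOf y = 7 := by
  by_contra k
  push Not at k
  exact ns (h.solvable k)

theorem St.n57_cn (h : St G) {t : G} (ht : orderOf t = 2 ∨ orderOf t = 3) : N57 (Cn t) := by
  intro y hy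
  have k : ∀ p, p = 5 ∨ p = 7 → orderOf y ≠ p := fun p hp e => by
    have := h.eq_one hp e (mem_Cn.1 hy).symm (by rcases hp with rfl | rfl <;> omega)
    rw [this, orderOf_one] at ht
    omega
  exact ⟨k 5 (Or.inl rfl), k 7 (Or.inr rfl)⟩

/-- The order of a 2-group normalised by an element of order five is a power of sixteen. -/
theorem St.card_five (h : St G) {y : G} (hy : orderOf y = 5) {Q : Subgroup G} (hQ : IsPGroup 2 Q)
    (hn : y ∈ 𝐍[Q]) : ∃ k : ℕ, Nat.card Q = 16 ^ k := by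
  have e := card_mod_cn Nat.prime_five hy hn
  rw [h.inf_cn (Or.inl hy) hQ, card_bot] at e
  obtain ⟨n, hn⟩ := IsPGroup.iff_card.1 hQ
  refine ⟨n / 4, ?_⟩
  rw [hn] at e ⊢
  have e2 : 2 ^ n = 16 ^ (n / 4) * 2 ^ (n % 4) := by
    conv_lhs => rw [← Nat.div_add_mod n 4, pow_add, pow_mul]
    norm_num
  have e3 : 16 ^ (n / 4) % 5 = 1 := by simp [Nat.pow_mod]
  rw [e2, Nat.mul_mod, e3] at e
  have : n % 4 < 4 := Nat.mod_lt _ (by norm_num)
  rw [e2]
  interval_cases n % 4 <;> simp_all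

/-- The order of a 2-group normalised by an element of order seven is a power of eight. -/
theorem St.card_seven (h : St G) {y : G} (hy : orderOf y = 7) {Q : Subgroup G} (hQ : IsPGroup 2 Q)
    (hn : y ∈ 𝐍[Q]) : ∃ k : ℕ, Nat.card Q = 8 ^ k := by
  have e := card_mod_cn (by norm_num) hy hn
  rw [h.inf_cn (Or.inr hy) hQ, card_bot] at e
  obtain ⟨n, hn⟩ := IsPGroup.iff_card.1 hQ
  refine ⟨n / 3, ?_⟩
  rw [hn] at e ⊢
  have e2 : 2 ^ n = 8 ^ (n / 3) * 2 ^ (n % 3) := by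
    conv_lhs => rw [← Nat.div_add_mod n 3, pow_add, pow_mul]
    norm_num
  have e3 : 8 ^ (n / 3) % 7 = 1 := by simp [Nat.pow_mod]
  rw [e2, Nat.mul_mod, e3] at e
  have : n % 3 < 3 := Nat.mod_lt _ (by norm_num)
  rw [e2]
  interval_cases n % 3 <;> simp_all

omit [Finite G] in
theorem bas_inv_pow {v w : G} (h2 : v * v = 1) (hw : w * w = 1) (n : ℕ) :
    v * (v * w) ^ n * v⁻¹ = ((v * w) ^ n)⁻¹ := by
  rw [← conj_pow, ← inv_pow, mul_inv_rev, inv_eq_of_mul_eq_one_right h2,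
    inv_eq_of_mul_eq_one_right hw, ← mul_assoc, h2, one_mul]

/-- Two involutions whose product is a 2-element generate a 2-group. -/
theorem bas_dih {v w : G} (h2 : v * v = 1) (hw : w * w = 1) (ht : Tw (v * w)) :
    IsPGroup 2 (zpowers v ⊔ zpowers w : Subgroup G) := by
  have tv : Tw v := ⟨1, by simpa [sq] using h2⟩
  have n : zpowers v ≤ 𝐍[zpowers (v * w)] := by
    refine zpowers_le.2 (mem_norm_of_cj_le (cj_le_iff.2 fun a ha => ?_))
    obtain ⟨j, rfl⟩ := ha
    have := bas_inv_pow h2 hw 1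
    rw [pow_one] at this
    rw [← conj_zpow, this]
    exact zpow_mem (inv_mem (mem_zpowers _)) j
  refine (pg_sup (bas_two_zpowers tv) (bas_two_zpowers ht) n).to_le
    (sup_le le_sup_left (zpowers_le.2 ?_))
  have := mul_mem (mem_sup_left (T := zpowers (v * w)) (mem_zpowers v))
    (mem_sup_right (S := zpowers v) (mem_zpowers (v * w)))
  rwa [← mul_assoc, h2, one_mul] at this

/-- An involution outside the 2-core inverts an element of odd prime order. -/
theorem St.exists_inv (h : St G) {H : Subgroup G} {v : G} (hv : v ∈ H) (h2 : v * v = 1)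
    (hn : v ∉ O2 H) : ∃ y ∈ H, (orderOf y = 3 ∨ orderOf y = 5 ∨ orderOf y = 7) ∧
      v * y * v⁻¹ = y⁻¹ := by
  by_contra k
  refine hn (zpowers_le.1 (GT.baer_suzuki_of (zpowers_le.2 hv) fun g hg => ?_))
  have hw : g * v * g⁻¹ * (g * v * g⁻¹) = 1 := by rw [conj_mul, h2]; simp
  rw [GT.map_conj_zpowers]
  refine bas_dih h2 hw (by_contra fun ht => k ?_)
  obtain ⟨n, e⟩ := h.exists_pow ht
  exact ⟨_, pow_mem (mul_mem hv (mul_mem (mul_mem hg hv) (inv_mem hg))) n, e, bas_inv_pow h2 hw n⟩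

theorem bas_norm_mul {Q : Subgroup G} {a b c d : G} (hc : c ∈ 𝐍[Q]) (h1 : a⁻¹ * b ∈ Q)
    (h2 : c⁻¹ * d ∈ Q) : (a * c)⁻¹ * (b * d) ∈ Q := by
  have := mul_mem (conj_mem_of_norm' hc h1) h2
  convert this using 1
  group

theorem bas_norm_pow {Q : Subgroup G} {a b : G} (ha : a ∈ 𝐍[Q]) (h1 : a⁻¹ * b ∈ Q) (n : ℕ) :
    (a ^ n)⁻¹ * b ^ n ∈ Q := by
  induction n with
  | zero => simp
  | succ n ih => rw [pow_succ, pow_succ]; exact bas_norm_mul ha ih h1

/-- The fourth power of an element of the coset `a Q` has order three. -/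
theorem St.bas_four (h : St G) {Q : Subgroup G} (hQ : IsPGroup 2 Q) {a w : G} (aQ : a ∈ 𝐍[Q])
    (ha : orderOf a = 3) (hw : a⁻¹ * w ∈ Q) : orderOf (w ^ 4) = 3 ∧ a⁻¹ * w ^ 4 ∈ Q := by
  have a3 : a ^ 3 = 1 := ha ▸ pow_orderOf_eq_one a
  have h4 := bas_norm_pow aQ hw 4
  rw [show a ^ 4 = a by rw [pow_succ, a3, one_mul]] at h4
  refine ⟨?_, h4⟩
  have d3 : 3 ∣ orderOf w := by
    have := bas_norm_pow aQ hw (orderOf w)
    rw [pow_orderOf_eq_one, mul_one, inv_mem_iff] at this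
    by_contra n
    have h5 := bas_not_dvd (tw_of_mem hQ this) Nat.prime_three (by norm_num)
    rw [orderOf_pow' a (orderOf_pos w).ne', ha,
      (Nat.Prime.coprime_iff_not_dvd Nat.prime_three).2 n] at h5
    exact h5 (by norm_num)
  have h1 := h w
  have h2 := orderOf_pos w
  rw [orderOf_pow' w (by norm_num)]
  obtain e | e : orderOf w = 3 ∨ orderOf w = 6 := by omega
  all_goals rw [e]; norm_num

/-- An involution inverting `a` modulo the 2-group `Q` inverts an element of `a Q`. -/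
theorem St.inv_lift (h : St G) {Q : Subgroup G} (hQ : IsPGroup 2 Q) {v a : G} (h2 : v * v = 1)
    (vQ : v ∈ 𝐍[Q]) (aQ : a ∈ 𝐍[Q]) (ha : orderOf a = 3) (hi : v * a * v⁻¹ * a ∈ Q) :
    ∃ y : G, orderOf y = 3 ∧ a⁻¹ * y ∈ Q ∧ v * y * v⁻¹ = y⁻¹ ∧
      y ∈ closure ({v, a * v * a⁻¹} : Set G) := by
  have hw : a * v * a⁻¹ * (a * v * a⁻¹) = 1 := by rw [conj_mul, h2]; simp
  have a3 : a * a * a = 1 := by rw [← pow_three', ← ha, pow_orderOf_eq_one]
  have k : a⁻¹ * (v * (a * v * a⁻¹)) ∈ Q := by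
    have := conj_mem_of_norm' aQ hi
    rw [inv_eq_of_mul_eq_one_right h2] at this
    convert this using 1
    rw [inv_eq_of_mul_eq_one_left a3]
    calc a * a * (v * (a * v * (a * a))) = a * a * (v * a * v * a) * a := by group
      _ = _ := rfl
  obtain ⟨e1, e2⟩ := h.bas_four hQ aQ ha k
  exact ⟨_, e1, e2, bas_inv_pow h2 hw 4,
    pow_mem (mul_mem (subset_closure (by simp)) (subset_closure (by simp))) 4⟩

theorem card_mul_le {Q A B : Subgroup G} (hA : A ≤ Q) (hB : B ≤ Q) :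
    Nat.card A * Nat.card B ≤ Nat.card Q * Nat.card (A ⊓ B : Subgroup G) :=
  (Loc.card_mul_card_le_card_sup_mul_card_inf A B).trans
    (Nat.mul_le_mul_right _ (card_le_of_le (sup_le hA hB)))

theorem gl_sq {Q : Subgroup G} {t y : G} (hy : y ∈ 𝐍[Q])
    (h : Q ⊓ Cn t ⊓ Cn (y * t * y⁻¹) = ⊥) :
    Nat.card (Q ⊓ Cn t : Subgroup G) ^ 2 ≤ Nat.card Q := by
  have e : cj(y, Q ⊓ Cn t) = Q ⊓ Cn (y * t * y⁻¹) := by
    rw [cj_inf, cj_of_norm hy, Cn, Cn, GT.centralizer_singleton_conj]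
  have k := card_mul_le (Q := Q) (A := Q ⊓ Cn t) (B := cj(y, Q ⊓ Cn t)) inf_le_left
    (e ▸ inf_le_left)
  rw [card_cj, e, show Q ⊓ Cn t ⊓ (Q ⊓ Cn (y * t * y⁻¹)) = ⊥ from
    eq_bot_iff.2 (h ▸ le_inf inf_le_left (inf_le_right.trans inf_le_right)), card_bot] at k
  rwa [mul_one, ← sq] at k

theorem bas_not_three {Q : Subgroup G} (hQ : IsPGroup 2 Q) : ¬ 3 ∣ Nat.card Q := fun e => by
  obtain ⟨n, hn⟩ := IsPGroup.iff_card.1 hQ
  have := Nat.prime_three.dvd_of_dvd_pow (hn ▸ e)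
  omega

/-- An element of order three centralising `u` modulo the 2-group `Q`. -/
theorem exists_cn {Q : Subgroup G} (hQ : IsPGroup 2 Q) {x u : G} (hx : orderOf x = 3)
    (xQ : x ∈ 𝐍[Q]) (uQ : u ∈ 𝐍[Q]) (hc : u⁻¹ * (x * u * x⁻¹) ∈ Q) :
    ∃ q ∈ Q, Commute x (u * q) := by
  have k : ∀ n : ℕ, u⁻¹ * (x ^ n * u * (x ^ n)⁻¹) ∈ Q := fun n => by
    induction n with
    | zero => simp
    | succ n ih =>
      have := mul_mem hc (conj_mem_of_norm xQ ih)
      convert this using 1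
      rw [pow_succ']
      group
  obtain ⟨q, hq, e⟩ := EX.exists_fixed_coset Nat.prime_three (isP_zpowers hx) (bas_not_three hQ)
    (x := u) fun a ha q hq => by
      obtain ⟨n, rfl⟩ := (mem_powers_iff_mem_zpowers.2 ha)
      have := mul_mem (k n) (conj_mem_of_norm (pow_mem xQ n) hq)
      convert this using 1
      group
  exact ⟨q, hq, e x (mem_zpowers x)⟩

/-- Two elements of order three in one coset of the 2-group `Q` are conjugate under `Q`. -/
theorem conj_of_coset {Q : Subgroup G} (hQ : IsPGroup 2 Q) {x y : G} (hx : orderOf x = 3)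
    (hy : orderOf y = 3) (xQ : x ∈ 𝐍[Q]) (h : x⁻¹ * y ∈ Q) : ∃ q ∈ Q, q * x * q⁻¹ = y := by
  haveI := Fact.mk Nat.prime_three
  have n : zpowers x ≤ 𝐍[Q] := zpowers_le.2 xQ
  have s : Syl 3 (zpowers y) (zpowers x ⊔ Q) := by
    have hl : zpowers y ≤ zpowers x ⊔ Q := zpowers_le.2 (by
      simpa using mul_mem (mem_sup_left (T := Q) (mem_zpowers x)) (mem_sup_right h))
    obtain ⟨T, h1, h2⟩ := Syl.exists_ge (isP_zpowers hy) hl
    refine h2.of_card_le (isP_zpowers hy) hl ?_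
    rw [Nat.card_zpowers, hy, ← hx, ← Nat.card_zpowers]
    let f : T → zpowers x := fun t => ⟨_, ((mem_sup_norm' n).1 (h2.le t.2)).choose_spec.1⟩
    refine Nat.card_le_card_of_injective f fun s t e => ?_
    obtain ⟨-, q, hq, e1⟩ := ((mem_sup_norm' n).1 (h2.le s.2)).choose_spec
    obtain ⟨-, r, hr, e2⟩ := ((mem_sup_norm' n).1 (h2.le t.2)).choose_spec
    have e3 : ((mem_sup_norm' n).1 (h2.le s.2)).choose = ((mem_sup_norm' n).1 (h2.le t.2)).choose :=
      congrArg Subtype.val e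
    have m : (s : G)⁻¹ * t ∈ T ⊓ Q := mem_inf.2 ⟨mul_mem (inv_mem s.2) t.2, by
      rw [← e1, ← e2, e3]; simpa [mul_assoc] using mul_mem (inv_mem hq) hr⟩
    rw [eq_bot_of_coprime (p := 3) (h2.pg.to_le inf_le_left) inf_le_right
      ((Nat.Prime.coprime_iff_not_dvd Nat.prime_three).2 (bas_not_three hQ)).symm, mem_bot] at m
    exact Subtype.ext (inv_mul_eq_one.1 m)
  obtain ⟨g, hg, e⟩ := s.conj_le (isP_zpowers hx) le_sup_left
  obtain ⟨q, hq, a, ha, rfl⟩ := (mem_sup_norm n).1 (sup_comm _ Q ▸ hg)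
  have e1 := cj_le_iff.1 e x (mem_zpowers x)
  have e2 : q * a * x * (q * a)⁻¹ = q * x * q⁻¹ := by
    obtain ⟨j, rfl⟩ := ha
    simp only
    group
  rw [e2] at e1
  refine ⟨q, hq, ?_⟩
  have m : y⁻¹ * (q * x * q⁻¹) ∈ zpowers y ⊓ Q := mem_inf.2 ⟨mul_mem (inv_mem (mem_zpowers y)) e1, by
    have := mul_mem (mul_mem (inv_mem h) (conj_mem_of_norm' xQ hq)) (inv_mem hq)
    convert this using 1
    group⟩
  rw [eq_bot_of_coprime (p := 3) ((isP_zpowers hy).to_le inf_le_left) inf_le_right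
    ((Nat.Prime.coprime_iff_not_dvd Nat.prime_three).2 (bas_not_three hQ)).symm, mem_bot] at m
  exact (inv_mul_eq_one.1 m).symm

theorem comm_sup_cn {Q : Subgroup G} (hQ : IsPGroup 2 Q) {x : G} (hx : Odd (orderOf x))
    (xQ : x ∈ 𝐍[Q]) {q : G} (hq : q ∈ Q) :
    ∃ a ∈ ⁅Q, zpowers x⁆, ∃ c ∈ Q ⊓ Cn x, q = a * c := by
  obtain ⟨n, hn⟩ := IsPGroup.iff_card.1 hQ
  have e := GT.CopAct.commutator_sup_centralizer (zpowers_le.2 xQ)
    (by rw [hn, Nat.card_zpowers]; exact (Nat.coprime_two_right.2 hx).pow_right n)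
    (Or.inl inferInstance)
  rw [GT.centralizer_zpowers] at e
  have nn : Q ⊓ Cn x ≤ 𝐍[⁅Q, zpowers x⁆] :=
    norm_comm (norm_of_le inf_le_left) (norm_of_cent (GT.centralizer_zpowers x ▸ inf_le_right))
  obtain ⟨a, ha, c, hc, e1⟩ := (mem_sup_norm nn).1 (e.ge hq)
  exact ⟨a, ha, c, hc, e1.symm⟩

theorem exists_mx {H : Subgroup G} (h1 : O2 H ≠ ⊥) : ∃ M : Subgroup G, H ≤ M ∧ Mx M := by
  obtain ⟨M, hM⟩ := Finite.exists_le_maximal (p := fun M : Subgroup G => O2 M ≠ ⊥) h1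
  refine ⟨M, hM.1, hM.2.1, fun P hP p1 hn => hM.2.2 (fun e => p1 (eq_bot_iff.2 (e ▸ ?_))) hn⟩
  exact le_core_of_subnormal (GT.SubnormalIn.of_le_normalizer le_normalizer le_rfl) hP

theorem Mx.norm_eq {M P : Subgroup G} (m : Mx M) (hP : IsPGroup 2 P) (h1 : P ≠ ⊥)
    (hn : M ≤ 𝐍[P]) : 𝐍[P] = M := le_antisymm (m.max P hP h1 hn) hn

theorem Mx.norm {M : Subgroup G} (m : Mx M) : 𝐍[O2 M] = M :=
  m.norm_eq (pg_core M) m.ne (le_norm_core M)

theorem Hyp.mx_ch (h : Hyp G) {M : Subgroup G} (m : Mx M) : ChP 2 M :=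
  m.norm ▸ h.c2 _ (pg_core M) m.ne

theorem Hyp.mx_ne (h : Hyp G) {M : Subgroup G} (m : Mx M) : M ≠ ⊤ :=
  m.norm ▸ h.top _ (pg_core M) m.ne

theorem Hyp.mx_cen (h : Hyp G) {M : Subgroup G} (m : Mx M) : 𝐂[O2 M] ≤ O2 M :=
  (h.mx_ch m).le_core ((cent_le_norm _).trans m.norm.le) le_rfl

theorem Hyp.slC (h : Hyp G) {P : Subgroup G} (hP : IsPGroup 2 P) (h1 : P ≠ ⊥) : Sl 𝐂[P] := by
  haveI := Fact.mk Nat.prime_two
  refine ⟨(h.c2 P hP h1).of_normal (cent_le_norm P) (norm_cent le_rfl), h.st.solvable ?_⟩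
  obtain ⟨⟨t, ht⟩, t1⟩ := ne_bot_iff_exists_ne_one.1 h1
  intro y hy
  have k : ¬ (orderOf y = 5 ∨ orderOf y = 7) := fun e =>
    t1 (Subtype.ext (h.st.fpf e (mem_cent.1 hy t ht).symm (tw_of_mem hP ht)))
  tauto

theorem Hyp.slCn (h : Hyp G) {t : G} (h2 : t * t = 1) (h1 : t ≠ 1) : Sl (Cn t) := by
  have := h.slC (bas_two_zpowers (u := t) ⟨1, by simpa [sq] using h2⟩) (by simpa using h1)
  rwa [GT.centralizer_zpowers] at this

theorem exists_pj (H : Subgroup G) :
    Pj H (O2 H) (QuotientGroup.mk' (pCore 2 H)) :=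
  ⟨pg_core H, GT.pCoreOf_le H, QuotientGroup.mk'_surjective _, fun m => by
    rw [QuotientGroup.mk'_apply, QuotientGroup.eq_one_iff]
    exact ⟨fun e => ⟨m, e, rfl⟩, fun ⟨a, ha, e⟩ => Subtype.ext e ▸ ha⟩⟩

section Pj
variable {Y : Type*} [Group Y] {M Q : Subgroup G} {π : M →* Y}

theorem Pj.norm (p : Pj M Q π) : M ≤ 𝐍[Q] :=
  norm_of_forall_cj_le fun g hg => cj_le_iff.2 fun a ha => by
    have := (p.ker (⟨g, hg⟩ * ⟨a, p.le ha⟩ * ⟨g, hg⟩⁻¹)).1 (by
      rw [map_mul, map_mul, (p.ker ⟨a, p.le ha⟩).2 ha, map_inv, mul_one, mul_inv_cancel])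
    simpa using this

theorem Pj.fin (p : Pj M Q π) : Finite Y := Finite.of_surjective π p.surj

theorem Pj.ker_eq (p : Pj M Q π) : π.ker = Q.subgroupOf M :=
  Subgroup.ext fun m => p.ker m

theorem Pj.card_le (p : Pj M Q π) {U : Subgroup G} (hU : U ≤ M) :
    Nat.card U = Nat.card (U ⊓ Q : Subgroup G) * Nat.card ((U.subgroupOf M).map π) := by
  let f := π.comp (inclusion hU)
  have e1 : f.range = (U.subgroupOf M).map π := by
    rw [MonoidHom.range_comp, inclusion_range]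
  have e2 : f.ker = (U ⊓ Q).subgroupOf U := by
    ext a
    simp [f, mem_subgroupOf, p.ker]
  rw [← e1, ← Nat.card_congr (subgroupOfEquivOfLe (inf_le_left : U ⊓ Q ≤ U)).toEquiv, ← e2,
    ← Nat.card_congr (QuotientGroup.quotientKerEquivRange f).toEquiv, mul_comm]
  exact card_eq_card_quotient_mul_card_subgroup f.ker

theorem Pj.card (p : Pj M Q π) : Nat.card M = Nat.card Q * Nat.card Y := by
  rw [p.card_le le_rfl, inf_eq_right.2 p.le, subgroupOf_self, map_top_of_surjective _ p.surj,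
    card_top]

theorem Pj.st (p : Pj M Q π) (h : St G) : St Y := (h.sub M).of_surjective π p.surj

theorem Pj.congr (p : Pj M Q π) {Y' : Type*} [Group Y'] (e : Y ≃* Y') :
    Pj M Q (e.toMonoidHom.comp π) :=
  ⟨p.two, p.le, e.surjective.comp p.surj, fun m => by simp [p.ker]⟩

theorem mem_pre {K : Subgroup Y} {g : G} : g ∈ pre π K ↔ ∃ h : g ∈ M, π ⟨g, h⟩ ∈ K :=
  ⟨fun ⟨a, ha, e⟩ => e ▸ ⟨a.2, ha⟩, fun ⟨h, e⟩ => ⟨⟨g, h⟩, e, rfl⟩⟩

theorem pre_le (K : Subgroup Y) : pre π K ≤ M := fun _ h => (mem_pre.1 h).1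

theorem Pj.le_pre (p : Pj M Q π) (K : Subgroup Y) : Q ≤ pre π K := fun q hq =>
  mem_pre.2 ⟨p.le hq, (p.ker ⟨q, p.le hq⟩).2 hq ▸ one_mem K⟩

theorem Pj.map_pre (p : Pj M Q π) (K : Subgroup Y) : ((pre π K).subgroupOf M).map π = K := by
  rw [pre, subgroupOf, comap_map_eq_self_of_injective M.subtype_injective,
    map_comap_eq_self_of_surjective p.surj]

theorem Pj.card_pre (p : Pj M Q π) (K : Subgroup Y) :
    Nat.card (pre π K) = Nat.card Q * Nat.card K := by
  rw [p.card_le (pre_le K), inf_eq_right.2 (p.le_pre K), p.map_pre]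

theorem Pj.res (p : Pj M Q π) (K : Subgroup Y) :
    ∃ ρ : pre π K →* K, Pj (pre π K) Q ρ ∧
      ∀ g : pre π K, (ρ g : Y) = π ⟨g, pre_le K g.2⟩ := by
  refine ⟨(π.comp (inclusion (pre_le K))).codRestrict K fun g => (mem_pre.1 g.2).2,
    ⟨p.two, p.le_pre K, fun k => ?_, fun m => ?_⟩, fun g => rfl⟩
  · obtain ⟨m, hm⟩ := p.surj k
    exact ⟨⟨m, mem_pre.2 ⟨m.2, hm ▸ k.2⟩⟩, Subtype.ext hm⟩
  · rw [Subtype.ext_iff]
    exact p.ker ⟨m, pre_le K m.2⟩

theorem Pj.syl_pre (p : Pj M Q π) {S : Subgroup Y} (s : Syl 2 S ⊤) : Syl 2 (pre π S) M := by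
  haveI := p.fin
  obtain ⟨a, ha⟩ := IsPGroup.iff_card.1 p.two
  obtain ⟨b, hb⟩ := IsPGroup.iff_card.1 s.pg
  refine ⟨pre_le S, IsPGroup.of_card (n := a + b) (by rw [p.card_pre, ha, hb, pow_add]), ?_⟩
  have e : (pre π S).relIndex M = S.index := by
    rw [relIndex, pre, subgroupOf, comap_map_eq_self_of_injective M.subtype_injective,
      index_comap_of_surjective _ p.surj]
  rw [e, ← relIndex_top_right]
  exact s.nd

theorem Pj.lift (p : Pj M Q π) {y : Y} (hy : Odd (orderOf y)) :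
    ∃ m : M, π m = y ∧ orderOf (m : G) = orderOf y := lift_odd p.two π p.surj p.ker hy

theorem Pj.ord (p : Pj M Q π) {m : M} (hm : Odd (orderOf (m : G))) :
    orderOf (π m) = orderOf (m : G) := by
  refine Nat.dvd_antisymm (orderOf_coe m ▸ orderOf_map_dvd π m) ?_
  obtain ⟨j, hj⟩ := tw_of_mem p.two
    ((p.ker (m ^ orderOf (π m))).1 (by rw [map_pow, pow_orderOf_eq_one]))
  rw [SubgroupClass.coe_pow, ← pow_mul] at hj
  exact ((Nat.coprime_two_right.2 hm).pow_right j).dvd_of_dvd_mul_right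
    (orderOf_dvd_of_pow_eq_one hj)

/-- A 3-subgroup of the image lifts isomorphically. -/
theorem Pj.lift3 (p : Pj M Q π) {D : Subgroup Y} (hD : IsPGroup 3 D) :
    ∃ B : Subgroup G, B ≤ pre π D ∧ IsPGroup 3 B ∧ Nat.card B = Nat.card D ∧
      ∀ d ∈ D, ∃ b : M, (b : G) ∈ B ∧ π b = d := by
  haveI := p.fin
  haveI := Fact.mk Nat.prime_three
  obtain ⟨B, s⟩ := Syl.exists 3 (pre π D)
  have s1 := (s.subgroupOf (pre_le D)).map π
  rw [p.map_pre] at s1
  have e : D = (B.subgroupOf M).map π := s1.eq_of_le hD s1.le le_rfl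
  refine ⟨B, s.le, s.pg, ?_, fun d hd => ?_⟩
  · rw [p.card_le (s.le.trans (pre_le D)), ← e, eq_bot_of_coprime (p := 3) (s.pg.to_le inf_le_left)
      inf_le_right ((Nat.Prime.coprime_iff_not_dvd Nat.prime_three).2 (bas_not_three p.two)).symm,
      card_bot, one_mul]
  · obtain ⟨b, hb, e1⟩ := e.le hd
    exact ⟨b, hb, e1⟩

theorem Pj.rk (p : Pj M Q π)
    (h : ∀ U : Subgroup Y, IsElementaryAbelian 2 U → Nat.card U ≤ 4) : Rk M Q := by
  haveI := p.fin
  intro U hU el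
  rw [p.card_le hU, mul_comm]
  refine Nat.mul_le_mul_right _ (h _ (el_of_sq ?_))
  rintro _ ⟨a, ha, rfl⟩
  rw [← map_mul, show a * a = 1 from Subtype.ext (el_sq el ha), map_one]

theorem Pj.gl_sq (p : Pj M Q π) (h : St G) {t y : M}
    (hy : orderOf (π t * (π y * π t * (π y)⁻¹)) = 5 ∨ orderOf (π t * (π y * π t * (π y)⁻¹)) = 7) :
    Nat.card (Q ⊓ Cn (t : G) : Subgroup G) ^ 2 ≤ Nat.card Q := by
  refine Or8.gl_sq (p.norm y.2) (eq_bot_iff.2 fun e he => ?_)
  have d : orderOf (π t * (π y * π t * (π y)⁻¹)) ∣ orderOf ((t : G) * (y * t * (y : G)⁻¹)) := by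
    have := orderOf_map_dvd π (t * (y * t * y⁻¹))
    rwa [← orderOf_coe, map_mul, map_mul, map_mul, map_inv] at this
  refine h.fpf (y := (t : G) * (y * t * (y : G)⁻¹)) ?_
    ((mem_Cn.1 he.1.2).mul_left (mem_Cn.1 he.2)) (tw_of_mem p.two he.1.1)
  rcases hy with e | e
  · exact Or.inl (h.eq_of_dvd (Or.inl rfl) (e ▸ d))
  · exact Or.inr (h.eq_of_dvd (Or.inr rfl) (e ▸ d))

end Pj

theorem sr_of {T : Subgroup G}
    (h : ∀ H N : Subgroup G, N ≤ H → H ≤ T → H ≤ 𝐍[N] → (∀ a ∈ H, a * a ∈ N) →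
      Nat.card H ≤ 16 * Nat.card N) : SectionalPRankLE 2 4 T := by
  intro H N _ A _ hA
  let i : H →* G := T.subtype.comp H.subtype
  have hi : Function.Injective i := T.subtype_injective.comp H.subtype_injective
  have k := h ((A.comap (QuotientGroup.mk' N)).map i) (N.map i)
    (map_mono fun a ha => by
      rw [mem_comap, QuotientGroup.mk'_apply, (QuotientGroup.eq_one_iff a).2 ha]; exact one_mem A)
    (by rintro _ ⟨a, -, rfl⟩; exact (a : T).2) (map_norm_le i (norm_normal _ N))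
    (by
      rintro _ ⟨a, ha, rfl⟩
      refine ⟨a * a, (QuotientGroup.eq_one_iff _).1 ?_, map_mul i a a⟩
      rw [QuotientGroup.mk_mul, ← sq]
      exact hA _ ha)
  have e : Nat.card (A.comap (QuotientGroup.mk' N)) = Nat.card (N × A) :=
    Nat.card_congr (QuotientGroup.preimageMkEquivSubgroupProdSet N (A : Set (H ⧸ N)))
  rw [card_map_of_injective hi, card_map_of_injective hi, e, Nat.card_prod, mul_comm] at k
  exact Nat.le_of_mul_le_mul_right k Nat.card_pos

theorem Hyp.noSC8 (h : Hyp G) {T A : Subgroup G} (s : Syl 2 T ⊤) (hA : A ≤ T)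
    (el : IsElementaryAbelian 2 A) (h8 : Nat.card A = 8) : ¬ T ⊓ 𝐂[A] ≤ A := fun k => by
  refine h.sr T s (S1232.result s.pg (A.subgroupOf T) (el_of_sq fun a ha =>
    Subtype.ext (el_sq el ha)) (by rw [Nat.card_congr (subgroupOfEquivOfLe hA).toEquiv, h8]) ?_)
  rw [cent_subgroupOf hA]
  ext a
  exact ⟨fun e => k ⟨a.2, e⟩, fun e => mem_cent.2 fun b hb => el_comm el hb e⟩

section Md
variable {Y W : Type*} [Group Y] [AddCommGroup W] [DistribMulAction Y W]

/-- A parity certificate for an identity between sums in characteristic two. -/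
theorem cert {ι : Type*} [DecidableEq ι] (two : ∀ w : W, w + w = 0) (f : ι → W) (l : List ι)
    (h : ∀ i ∈ l, l.count i % 2 = 0) : (l.map f).sum = 0 := by
  rw [Finset.sum_list_map_count]
  refine Finset.sum_eq_zero fun i hi => ?_
  obtain ⟨k, hk⟩ := Nat.dvd_of_mod_eq_zero (h i (List.mem_toFinset.1 hi))
  rw [hk, mul_comm, mul_smul, two_nsmul, two, nsmul_zero]

theorem Md.comp (md : Md Y W) {X : Type*} [Group X] (ι : X →* Y) (hι : Function.Injective ι) :
    @Md X W _ _ (DistribMulAction.compHom W ι) := by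
  letI := DistribMulAction.compHom W ι
  refine ⟨md.two, fun y hy w => ?_⟩
  have := md.nrm (ι y) (by rwa [orderOf_injective ι hι]) w
  rw [orderOf_injective ι hι] at this
  rw [← this]
  exact Finset.sum_congr rfl fun i _ => by rw [← map_pow]; rfl

theorem Md.five (md : Md Y W) {y : Y} (h5 : y ^ 5 = 1) (h1 : y ≠ 1) (w : W) :
    w + y • w + y ^ 2 • w + y ^ 3 • w + y ^ 4 • w = 0 := by
  haveI := Fact.mk Nat.prime_five
  have e := orderOf_eq_prime h5 h1
  have := md.nrm y e.ge w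
  rw [e] at this
  simpa [Finset.sum_range_succ] using this

theorem Md.seven (md : Md Y W) {y : Y} (h7 : y ^ 7 = 1) (h1 : y ≠ 1) (w : W) :
    w + y • w + y ^ 2 • w + y ^ 3 • w + y ^ 4 • w + y ^ 5 • w + y ^ 6 • w = 0 := by
  haveI := Fact.mk (show Nat.Prime 7 by norm_num)
  have e := orderOf_eq_prime h7 h1
  have := md.nrm y (by omega) w
  rw [e] at this
  simpa [Finset.sum_range_succ] using this

theorem Md.fpf (md : Md Y W) {y : Y} (hy : orderOf y = 5 ∨ orderOf y = 7) {w : W}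
    (hw : y • w = w) : w = 0 := by
  have k : ∀ n : ℕ, y ^ n • w = w := fun n => by
    induction n with
    | zero => simp
    | succ n ih => rw [pow_succ, mul_smul, hw, ih]
  have := md.nrm y (by omega) w
  simp only [k, Finset.sum_const, Finset.card_range] at this
  rcases hy with e | e <;> rw [e] at this <;> simpa [succ_nsmul, md.two] using this

/-- An involution commuting with an element of order three fixes its fixed vectors. -/
theorem Md.cen (md : Md Y W) {x t : Y} (hx : orderOf x = 3) (ht : t * t = 1) (hc : Commute x t)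
    {w : W} (hw : x • w = w) : t • w = w := by
  by_cases t1 : t = 1
  · simp [t1]
  haveI := Fact.mk Nat.prime_two
  have ot : orderOf t = 2 := orderOf_eq_prime (by rw [sq, ht]) t1
  have e : orderOf (t * x) = 6 := by
    rw [hc.symm.orderOf_mul_eq_mul_orderOf_of_coprime (by rw [hx, ot]; norm_num), hx, ot]
  have k1 : (t * x) • w = t • w := by rw [mul_smul, hw]
  have k2 : (t * x) • t • w = w := by
    rw [← mul_smul, mul_assoc, hc.eq, ← mul_assoc, ht, one_mul, hw]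
  have := md.nrm (t * x) (by omega) w
  rw [e] at this
  simp only [Finset.sum_range_succ, Finset.range_zero, Finset.sum_empty, pow_succ', mul_smul _ (_ ^ _),
    pow_zero, one_smul, mul_one, mul_smul (t * x), k1, k2, zero_add] at this
  have h2 := md.two
  calc t • w = (w + w) + (w + w) + (t • w + t • w) + t • w := by simp [h2]
    _ = (w + t • w + w + t • w + w + t • w) + w := by abel
    _ = w := by rw [this, zero_add]

/-- The decomposition of a vector under a group of type `3 × 3`. -/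
theorem dec9 (two : ∀ w : W, w + w = 0) {a b : Y} (ha : a ^ 3 = 1) (hb : b ^ 3 = 1)
    (hc : Commute a b) (w : W) :
    ∃ w0 w1 w2 w3 w4 : W, w = w0 + w1 + w2 + w3 + w4 ∧ a • w0 = w0 ∧ b • w0 = w0 ∧
      w1 = w + a • w + (a * a) • w ∧ w2 = w + b • w + (b * b) • w ∧
      w3 = w + (a * b) • w + (a * b * (a * b)) • w ∧
      w4 = w + (a * b⁻¹) • w + (a * b⁻¹ * (a * b⁻¹)) • w := by
  have a3 : ∀ v : W, a • a • a • v = v := fun v => by
    rw [← mul_smul, ← mul_smul, ← pow_three', ha, one_smul]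
  have b3 : ∀ v : W, b • b • b • v = v := fun v => by
    rw [← mul_smul, ← mul_smul, ← pow_three', hb, one_smul]
  have ba : ∀ v : W, b • a • v = a • b • v := fun v => by rw [← mul_smul, ← hc.eq, mul_smul]
  have bi : b⁻¹ = b * b := inv_eq_of_mul_eq_one_right (by rw [← pow_three, hb])
  refine ⟨(w + b • w + b • b • w) + a • (w + b • w + b • b • w) + a • a • (w + b • w + b • b • w),
    _, _, _, _, ?_, ?_, ?_, rfl, rfl, rfl, rfl⟩
  · simp only [bi, mul_smul, smul_add, ba, b3]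
    have e : ∀ v : W, (2 : ℕ) • v = 0 := fun v => by rw [two_nsmul, two]
    calc w = w + 2 • (w + w + a • w + a • a • w + b • w + b • b • w + a • b • w + a • b • b • w +
          a • a • b • w + a • a • b • b • w) := by rw [e, add_zero]
      _ = _ := by abel
  · simp only [smul_add, a3]; abel
  · simp only [smul_add, ba, b3]; abel

end Md

end Cfsg.Agent.Or8
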