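import Mathlib
import Cfsg.Agent.Or8.Defs
import Cfsg.Agent.Or8.Bas
import Cfsg.Agent.Cl.SpecLinear
import Cfsg.Agent.Cl.LinearIso
import Cfsg.Agent.S2475
import Cfsg.Agent.S2476
import Cfsg.Agent.Perm.CompLen

/-! The known simple groups with element orders at most eight: linear groups. -/

set_option autoImplicit false
set_option linter.unusedSectionVars false
open Cfsg Subgroup

namespace Cfsg.Agent.Or8

open Cfsg.Agent.K3P Cfsg.Agent.Loc.Mss
open scoped commutatorElement

universe u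

variable {G : Type u} [Group G] [Finite G] [IsSimpleGroup G]

/-- A value in the range of `orderOf` is at most eight. -/
theorem li1_le {H : Type*} [Group H] (h : St H) {m : ℕ}
    (hm : m ∈ Set.range (orderOf : H → ℕ)) : m ≤ 8 := by
  obtain ⟨g, rfl⟩ := hm
  exact h g

theorem li1_geom (q : ℕ) {n : ℕ} (hn : 4 ≤ n) :
    q ^ 3 + q ^ 2 + q + 1 ≤ ∑ i ∈ Finset.range n, q ^ i := by
  have h1 : ∑ i ∈ Finset.range 4, q ^ i ≤ ∑ i ∈ Finset.range n, q ^ i :=
    Finset.sum_le_sum_of_subset (Finset.range_subset_range.2 hn)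
  simp only [Finset.sum_range_succ, Finset.range_zero, Finset.sum_empty] at h1
  simp only [pow_zero, pow_one] at h1
  omega

theorem li1_specM {q n : ℕ} (hq : 2 ≤ q) (hn : 4 ≤ n) : 9 ≤ Cl.specM (q : ℤ) n := by
  have hS : Cl.specS (q : ℤ) n = ∑ i ∈ Finset.range n, q ^ i := by
    rw [Cl.specS, ← Int.natAbs_natCast (∑ _ ∈ _, _)]
    push_cast
    rfl
  have h1 : ((q : ℤ) - 1).natAbs = q - 1 := by omega
  have h2 := li1_geom q hn
  rw [Cl.specM, h1, hS]
  set S := ∑ i ∈ Finset.range n, q ^ i with hSd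
  have hg : Nat.gcd S (q - 1) ≤ q - 1 := Nat.gcd_le_right _ (by omega)
  have hp : 0 < Nat.gcd S (q - 1) := Nat.gcd_pos_of_pos_right _ (by omega)
  rw [Nat.le_div_iff_mul_le hp]
  obtain ⟨r, rfl⟩ : ∃ r, q = r + 2 := ⟨q - 2, by omega⟩
  have h3 : r + 2 - 1 = r + 1 := by omega
  rw [h3] at hg ⊢
  nlinarith [Nat.zero_le (r ^ 3), Nat.zero_le (r ^ 2)]

/-- In dimension at least four there is an element of order at least nine. -/
theorem li1_big {n : ℕ} (hn : 4 ≤ n) {F : Type} [Field F] [Fintype F]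
    (h : St (Matrix.ProjectiveSpecialLinearGroup (Fin n) F)) : False := by
  obtain ⟨g, hg⟩ := Cl.spec_exists_singer_SL (F := F) (ι := Fin n) (by simp; omega)
  rw [Fintype.card_fin] at hg
  have h1 := Nat.le_of_dvd (orderOf_pos _) hg
  have h2 := li1_specM (q := Fintype.card F) Fintype.one_lt_card hn
  have h3 := h (g : Matrix.ProjectiveSpecialLinearGroup (Fin n) F)
  omega

theorem li1_small (hG : ¬ IsMulCommutative G) {H : Type*} [Group H] (e : G ≃* H)
    (hc : Nat.card H < 60) : False := by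
  have h1 : Group.IsSolvable G :=
    Perm.CompLen.isSolvable_of_card_lt_sixty (by rwa [Nat.card_congr e.toEquiv])
  exact hG ⟨⟨IsSimpleGroup.comm_iff_isSolvable.2 h1⟩⟩

theorem tgt_psl2 (h : St G) (hG : ¬ IsMulCommutative G) {F : Type} [Field F] [Fintype F]
    (e : G ≃* Matrix.ProjectiveSpecialLinearGroup (Fin 2) F) : Tgt G := by
  have h' := h.of_equiv e
  have hq2 : 2 ≤ Fintype.card F := Fintype.one_lt_card
  have hN : Nat.card F = Fintype.card F := Nat.card_eq_fintype_card
  by_cases h2 : Fintype.card F = 2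
  · obtain ⟨f⟩ := Cl.psl2_two_equiv_perm (F := F) (hN.trans h2)
    exact (li1_small hG (e.trans f) (by simp [Fintype.card_perm, Nat.factorial])).elim
  by_cases h3 : Fintype.card F = 3
  · obtain ⟨f⟩ := Cl.psl2_three_equiv_alt (F := F) (hN.trans h3)
    refine (li1_small hG (e.trans f) ?_).elim
    rw [nat_card_alternatingGroup]
    simp [Nat.factorial]
  obtain ⟨p, hc, k, hp, hq⟩ := FiniteField.card' F
  have := Fact.mk hp
  have hR := S2475.result (F := F) p (by omega)
  have a1 : p ≤ 8 := li1_le h' (by rw [hR]; exact Or.inl dvd_rfl)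
  have a2 : (Fintype.card F + 1) / Nat.gcd 2 (Fintype.card F - 1) ≤ 8 :=
    li1_le h' (by rw [hR]; exact Or.inr (Or.inr dvd_rfl))
  have hg : Nat.gcd 2 (Fintype.card F - 1) ≤ 2 := Nat.gcd_le_left _ two_pos
  have hg0 : 0 < Nat.gcd 2 (Fintype.card F - 1) := Nat.gcd_pos_of_pos_left _ two_pos
  have a3 : Fintype.card F ≤ 16 := by
    have := Nat.div_le_div_left (a := Fintype.card F + 1) hg hg0
    omega
  have key : Fintype.card F = 4 ∨ Fintype.card F = 5 ∨ Fintype.card F = 7 ∨
      Fintype.card F = 9 := by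
    have hpp : IsPrimePow (Fintype.card F) := by
      rw [hq]
      exact hp.isPrimePow.pow k.ne_zero
    have hmin : (Fintype.card F).minFac = p := by
      rw [hq]
      exact hp.pow_minFac k.ne_zero
    rw [← hmin] at a1
    generalize Fintype.card F = q at *
    interval_cases q <;> first | omega | (exfalso; revert hpp; decide +kernel) |
      (exfalso; revert a1; decide +kernel) | (exfalso; revert a2; decide +kernel)
  rcases key with h4 | h5 | h7 | h9
  · exact Or.inl ⟨e.trans (Cl.psl2_four_equiv_alt (hN.trans h4)).some⟩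
  · exact Or.inl ⟨e.trans (Cl.psl2_five_equiv_alt (hN.trans h5)).some⟩
  · exact Or.inr (Or.inr (Or.inr (Or.inl
      ⟨e.trans (Cl.psl2_seven_equiv_sl3_two (K := ZMod 2) (hN.trans h7) (by simp)).some⟩)))
  · exact Or.inr (Or.inl ⟨e.trans (Cl.psl2_nine_equiv_alt (hN.trans h9)).some⟩)

theorem tgt_psl3 (h : St G) {F : Type} [Field F] [Fintype F]
    (e : G ≃* Matrix.ProjectiveSpecialLinearGroup (Fin 3) F) : Tgt G := by
  have h' := h.of_equiv e
  have hq2 : 2 ≤ Fintype.card F := Fintype.one_lt_card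
  have hN : Nat.card F = Fintype.card F := Nat.card_eq_fintype_card
  obtain ⟨p, hc, k, hp, hq⟩ := FiniteField.card' F
  have := Fact.mk hp
  have hR := S2476.result (F := F) p
  have a2 : (Fintype.card F ^ 2 + Fintype.card F + 1) / Nat.gcd 3 (Fintype.card F - 1) ≤ 8 :=
    li1_le h' (by rw [hR]; exact Or.inl dvd_rfl)
  have hg : Nat.gcd 3 (Fintype.card F - 1) ≤ 3 := Nat.gcd_le_left _ three_pos
  have hg0 : 0 < Nat.gcd 3 (Fintype.card F - 1) := Nat.gcd_pos_of_pos_left _ three_pos
  have a3 : Fintype.card F ≤ 4 := by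
    have h1 := Nat.div_le_div_left (a := Fintype.card F ^ 2 + Fintype.card F + 1) hg hg0
    have h2 : Fintype.card F ^ 2 + Fintype.card F + 1 ≤ 26 := by omega
    by_contra h5
    nlinarith
  have key : Fintype.card F = 2 ∨ Fintype.card F = 4 := by
    generalize Fintype.card F = q at *
    interval_cases q <;> first | omega | (exfalso; revert a2; norm_num)
  rcases key with h2 | h4
  · have f1 := (Cl.psl2_seven_equiv_psl3_two (F := ZMod 7) (K := F) (by simp) (hN.trans h2)).some
    have f2 := (Cl.psl2_seven_equiv_sl3_two (F := ZMod 7) (K := ZMod 2) (by simp) (by simp)).some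
    exact Or.inr (Or.inr (Or.inr (Or.inl ⟨(e.trans f1.symm).trans f2⟩)))
  · exact Or.inr (Or.inr (Or.inr (Or.inr ⟨F, inferInstance, inferInstance, h4, ⟨e⟩⟩)))

theorem tgt_psln (h : St G) (hG : ¬ IsMulCommutative G) {n : ℕ} (hn : 2 ≤ n) {F : Type} [Field F]
    [Fintype F] [CharP F 2] (e : G ≃* Matrix.ProjectiveSpecialLinearGroup (Fin n) F) :
    Tgt G := by
  by_cases h4 : 4 ≤ n
  · exact (li1_big h4 (h.of_equiv e)).elim
  · obtain rfl | rfl : n = 2 ∨ n = 3 := by omega
    · exact tgt_psl2 h hG e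
    · exact tgt_psl3 h e

theorem tgt_alt (h : St G) {n : ℕ} (hn : 5 ≤ n) (e : G ≃* alternatingGroup (Fin n)) :
    Tgt G := by
  by_cases h8 : 8 ≤ n
  · exfalso
    obtain ⟨g, hg⟩ := (Equiv.Perm.exists_with_cycleType_iff (Fin n) (m := {3, 5})).2
      ⟨by simpa using h8, by simp⟩
    have hs : g ∈ alternatingGroup (Fin n) := by
      rw [Equiv.Perm.mem_alternatingGroup, Equiv.Perm.sign_of_cycleType, hg]
      simp
      rfl
    have ho : orderOf g = 15 := by
      rw [← Equiv.Perm.lcm_cycleType, hg]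
      rfl
    have h1 := h.of_equiv e ⟨g, hs⟩
    rw [← Subgroup.orderOf_coe] at h1
    change orderOf g ≤ 8 at h1
    omega
  · obtain rfl | rfl | rfl : n = 5 ∨ n = 6 ∨ n = 7 := by omega
    · exact Or.inl ⟨e⟩
    · exact Or.inr (Or.inl ⟨e⟩)
    · exact Or.inr (Or.inr (Or.inl ⟨e⟩))

theorem no_psl43 (h : St G) {F : Type} [Field F] [Fintype F] (hF : Fintype.card F = 3)
    (e : G ≃* Matrix.ProjectiveSpecialLinearGroup (Fin 4) F) : False :=
  li1_big le_rfl (h.of_equiv e)

end Cfsg.Agent.Or8
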