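import Mathlib
import Cfsg.Agent.Or8.Defs
import Cfsg.Agent.Or8.Bas
import Cfsg.Agent.S2366
import Cfsg.Agent.S1059
import Cfsg.Agent.Cl.SpecUnitary
import Cfsg.Agent.Perm.SpecSp4
import Cfsg.Agent.CIT.Models

/-! The known simple groups with element orders at most eight: other groups. -/

set_option autoImplicit false
set_option linter.unusedSectionVars false
open Cfsg Subgroup

namespace Cfsg.Agent.Or8

open Cfsg.Agent.K3P Cfsg.Agent.Loc.Mss
open scoped commutatorElement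

universe u

theorem li2_le {H : Type*} [Group H] [Finite H] (h : St H) {s : ℕ} {x : H}
    (hx : s ∣ orderOf x) : s ≤ 8 :=
  (Nat.le_of_dvd (orderOf_pos x) hx).trans (h x)

theorem li2_five {a : ℕ} (ha : 4 ≤ a) (h2 : 4 ∣ a)
    (hp : ∀ p : ℕ, p.Prime → p ∣ a ^ 2 + 1 → p = 2 ∨ p = 3 ∨ p = 5 ∨ p = 7) : a = 2 := by
  exfalso
  have h5 : ∀ {p : ℕ}, p.Prime → p ∣ a ^ 2 + 1 → p = 5 := by
    intro p pp hd
    obtain ⟨b, rfl⟩ := h2
    rcases hp p pp hd with rfl | rfl | rfl | rfl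
    · have : (4 * b) ^ 2 + 1 = 2 * (8 * b ^ 2) + 1 := by ring
      omega
    · exfalso
      have : ∀ x : ZMod 3, x ^ 2 + 1 ≠ 0 := by decide
      refine this ((4 * b : ℕ) : ZMod 3) ?_
      have := (ZMod.natCast_eq_zero_iff _ 3).2 hd
      exact_mod_cast this
    · rfl
    · exfalso
      have : ∀ x : ZMod 7, x ^ 2 + 1 ≠ 0 := by decide
      refine this ((4 * b : ℕ) : ZMod 7) ?_
      have := (ZMod.natCast_eq_zero_iff _ 7).2 hd
      exact_mod_cast this
  have hk := Nat.eq_prime_pow_of_unique_prime_dvd (n := a ^ 2 + 1) (p := 5) (by positivity) h5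
  generalize (a ^ 2 + 1).primeFactorsList.length = k at hk
  obtain ⟨b, rfl⟩ := h2
  rcases Nat.even_or_odd' k with ⟨j, rfl | rfl⟩
  · have e : (5 ^ j) ^ 2 = (4 * b) ^ 2 + 1 := by rw [hk]; ring
    generalize 5 ^ j = c at e
    have h1 : 4 * b < c := by nlinarith
    nlinarith
  · have e : 5 ^ (2 * j + 1) % 8 = 5 := by
      rw [pow_succ, pow_mul, Nat.mul_mod, Nat.pow_mod]
      norm_num
    have : (4 * b) ^ 2 + 1 = 8 * (2 * b ^ 2) + 1 := by ring
    omega

variable {G : Type u} [Group G] [Finite G] [IsSimpleGroup G]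

theorem no_psu3 (h : St G) {F : Type} [Field F] [Fintype F] {q : ℕ} (hF : Fintype.card F = q ^ 2)
    (hq : Odd q ∨ 4 ≤ q) (e : G ≃* PSU 3 F q) : False := by
  have h' := h.of_equiv e
  have : Finite (PSU 3 F q) := Finite.of_equiv _ e.toEquiv
  obtain ⟨σ, hσ⟩ := Cl.exists_uField hF
  have h2 := hσ.two_le
  by_cases h3 : q = 3
  · subst h3
    have : Fact (Nat.Prime 3) := ⟨by norm_num⟩
    have : CharP F 3 := charP_of_card_eq_prime_pow hF
    have hm : 12 ∈ Set.range (orderOf : PSU 3 F 3 → ℕ) := by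
      rw [S2366.result 3 (by norm_num) 3 hF]
      exact Or.inl (Or.inl (Or.inr (by norm_num)))
    obtain ⟨x, hx⟩ := hm
    have := h' x
    omega
  by_cases h5 : q = 5
  · subst h5
    have : Fact (Nat.Prime 5) := ⟨by norm_num⟩
    have : CharP F 5 := charP_of_card_eq_prime_pow hF
    have hm : 10 ∈ Set.range (orderOf : PSU 3 F 5 → ℕ) := by
      rw [S2366.result 5 (by norm_num) 5 hF]
      exact Or.inl (Or.inl (Or.inr (by norm_num)))
    obtain ⟨x, hx⟩ := hm
    have := h' x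
    omega
  obtain ⟨g, hg⟩ := Cl.spec_exists_singer_SU (n := 3) hσ (by norm_num)
  rw [S2366.specM_three (by omega)] at hg
  have h8 := li2_le h' hg
  have h4 : 4 ≤ q := by
    rcases hq with ⟨k, rfl⟩ | hq <;> omega
  by_cases h44 : q = 4
  · subst h44
    norm_num at h8
  have h6 : 6 ≤ q := by omega
  have hg3 : Nat.gcd 3 (q + 1) ≤ 3 := Nat.gcd_le_left _ (by norm_num)
  have hg0 : 0 < Nat.gcd 3 (q + 1) := Nat.gcd_pos_of_pos_left _ (by norm_num)
  have h9 : q ^ 2 - q + 1 < 9 * Nat.gcd 3 (q + 1) :=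
    (Nat.div_lt_iff_lt_mul hg0).1 (by omega)
  have : 6 * q ≤ q ^ 2 := by nlinarith
  omega

theorem no_suz (h : St G) (s : IsSuzuki G) : False := by
  obtain ⟨-, m, hm, hc⟩ := s
  have h8 : 2 ^ 3 ≤ 2 ^ (2 * m + 1) := Nat.pow_le_pow_right two_pos (by omega)
  have h4 : 4 ∣ 2 ^ (2 * m + 1) := pow_dvd_pow 2 (show 2 ≤ 2 * m + 1 by omega)
  have := li2_five (a := 2 ^ (2 * m + 1)) (by omega) h4 fun p pp hd =>
    h.prime_le pp (hc ▸ (hd.mul_left _).mul_right _)
  omega

theorem no_isuz (h : St G) (s : Lie.IsoSuzuki G) : False :=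
  no_suz h (CIT.isSuzuki_of_isoSuzuki s)

theorem no_psp4 (h : St G) {F : Type} [Field F] [Fintype F] {n : ℕ} (hn : 2 ≤ n)
    (hF : Fintype.card F = 2 ^ n) (e : G ≃* PSp 2 F) : False := by
  have h' := h.of_equiv e
  have : Finite (PSp 2 F) := Finite.of_equiv _ e.toEquiv
  have : CharP F 2 := charP_of_card_eq_prime_pow hF
  have h4 : 2 ^ 2 ≤ 2 ^ n := Nat.pow_le_pow_right two_pos hn
  have hd : 2 ∣ 2 ^ n := dvd_pow_self 2 (by omega)
  have hg : Nat.gcd 2 (Fintype.card F - 1) = 1 := by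
    rw [hF]
    exact (Nat.Prime.coprime_iff_not_dvd Nat.prime_two).2 (by omega)
  obtain ⟨x, hx⟩ := Perm.sp4_low (F := F) 2 (s := Fintype.card F ^ 2 + 1)
    (Or.inl (by rw [hg, one_mul]))
  have h8 := li2_le h' hx
  rw [hF] at h8
  nlinarith

theorem no_psp43 (h : St G) {F : Type} [Field F] [Fintype F] (hF : Fintype.card F = 3)
    (e : G ≃* PSp 2 F) : False := by
  have h' := h.of_equiv e
  have : Finite (PSp 2 F) := Finite.of_equiv _ e.toEquiv
  have : Fact (Nat.Prime 3) := ⟨by norm_num⟩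
  have : CharP F 3 := charP_of_card_eq_prime hF
  obtain ⟨x, hx⟩ := Perm.sp4_low (F := F) 3 (s := 9)
    (Or.inr (Or.inr (Or.inr (Or.inr ⟨le_rfl, by norm_num⟩))))
  have h8 := li2_le h' hx
  omega

theorem no_psu43 (h : St G) {F : Type} [Field F] [Fintype F] (hF : Fintype.card F = 9)
    (e : G ≃* PSU 4 F 3) : False := by
  have h' := h.of_equiv e
  have : Finite (PSU 4 F 3) := Finite.of_equiv _ e.toEquiv
  have : Fact (Nat.Prime 3) := ⟨by norm_num⟩
  have hF' : Fintype.card F = 3 ^ 2 := hF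
  have : CharP F 3 := charP_of_card_eq_prime_pow hF'
  obtain ⟨σ, hσ⟩ := Cl.exists_uField hF'
  obtain ⟨g, -, hg⟩ := Cl.spec_exists_block_SU (n := 4) hσ 3 (by norm_num) (k := 4) (by norm_num)
    le_rfl (l := 1) (by simp)
  have h8 := li2_le h' (hg 1 (by norm_num))
  omega

theorem no_g23 (h : St G) {F : Type} [Field F] [Fintype F] (hF : Fintype.card F = 3)
    (e : G ≃* Lie.chevG2.group F) : False := by
  have hc : Nat.card G = 3 ^ 6 * (3 ^ 2 - 1) * (3 ^ 6 - 1) :=
    (Nat.card_congr e.toEquiv).trans (S1059.result hF)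
  have := h.prime_le (p := 13) (by norm_num) (by rw [hc]; norm_num)
  omega

end Cfsg.Agent.Or8
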